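import Groth.Agent.Vanish.K910.NoGrowth
import Groth.Agent.Dix.TwistClosed490
import Groth.Agent.VarietyB.DegCartier

/-!
# Intersection numbers of nef classes and effective divisors

* `IL_ideal`: intersection with `O(E)` is restriction to `E`.
* `IL_quot_le`: `(l · O_J) ≤ (l · O_E)` for `E ≤ J` and nef classes.
* `core`: if `B = A + E` with `A`, `B` nef, `(A^m · E) ≤ (B^(m+1))` on an integral scheme of dimension `≤ m + 1`.
-/

set_option autoImplicit false
universe u
open CategoryTheory CategoryTheory.Limits AlgebraicGeometry TopologicalSpace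

namespace K870.VertIL

open Groth.Agent Groth.Agent.Fga Groth.Agent.Fga.PicMon Groth.Agent.Fga.RegSec K910.HZ K910.IL K910.Nef K910.Dev

/-- The quotient `O/E ⟶ O/J` for `E ≤ J`. -/
theorem exists_quot {X : Scheme.{u}} {E J : X.IdealSheafData} (h : E ≤ J) :
    ∃ c : ClSub.quotMod E ⟶ ClSub.quotMod J, Epi c := by
  have hE := VarietyB.DegCartier.idealSeq_shortExact E
  have hJ := VarietyB.DegCartier.idealSeq_shortExact J
  have hEe : Epi (ClSub.toSubscheme E) := hE.epi_g
  have hJe : Epi (ClSub.toSubscheme J) := hJ.epi_g
  have h0 : ClSub.idealModι E ≫ ClSub.toSubscheme J = 0 := by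
    rw [← Dix.TwistClosed490.incl_ι h, Category.assoc]
    have : ClSub.idealModι J ≫ ClSub.toSubscheme J = 0 := kernel.condition _
    rw [this, comp_zero]
  let c : ClSub.quotMod E ⟶ ClSub.quotMod J := hE.gIsCokernel.desc (CokernelCofork.ofπ (ClSub.toSubscheme J) h0)
  have hc : ClSub.toSubscheme E ≫ c = ClSub.toSubscheme J :=
    hE.gIsCokernel.fac (CokernelCofork.ofπ (ClSub.toSubscheme J) h0) WalkingParallelPair.one
  refine ⟨c, ?_⟩
  have : Epi (ClSub.toSubscheme E ≫ c) := by rw [hc]; exact hJe
  exact epi_of_epi (ClSub.toSubscheme E) c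

variable (k : Type u) [Field k] {X : Scheme.{u}} [X.Over (Spec (CommRingCat.of k))]
  [IsProper (X ↘ Spec (CommRingCat.of k))] {d : ℕ} (hd : topologicalKrullDim X ≤ d)

include hd

theorem IL_ideal {l : List (MC X)} (hl : InvL l) (E : X.IdealSheafData) :
    IL k X d (mc (ClSub.idealMod E) :: l) 1 = IL k X d l (mc (ClSub.quotMod E)) := by
  have := IntAdd.isNoetherian k X
  have hO : Coh.IsCoh (Coh.structureModule X) :=
    HodgeSec.isCoh_of_isInvertible Fdesc.LocGen.isInvertible_structureModule
  have h : IL k X d l (1 * mc (Coh.structureModule X)) =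
      IL k X d l (1 * mc (ClSub.idealMod E)) + IL k X d l (1 * mc (ClSub.quotMod E)) :=
    IL_add k hd hl _ (VarietyB.DegCartier.idealSeq_shortExact E) (VarietyB.DegCartier.isCoh_idealMod E) hO
      (VarietyB.DegCartier.isCoh_quotMod E) (Inv.one (X := X))
  rw [one_mul, one_mul, one_mul, mc_one] at h
  rw [IL_cons, mul_one, h]
  ring

theorem IL_quot_le {a : MC X} (ha : Inv a) {l : List (MC X)} (hl : ∀ p ∈ l, NefA a p) {E J : X.IdealSheafData}
    (h : E ≤ J) (hE : topologicalKrullDim (CohB1.support (ClSub.quotMod E)) ≤ l.length) :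
    IL k X d l (mc (ClSub.quotMod J)) ≤ IL k X d l (mc (ClSub.quotMod E)) := by
  have := IntAdd.isNoetherian k X
  have hI : InvL l := fun q hq => (hl q hq).1
  obtain ⟨c, hc⟩ := exists_quot h
  have hS : (ShortComplex.mk (kernel.ι c) c (kernel.condition _)).ShortExact :=
    { exact := ShortComplex.exact_kernel _
      mono_f := inferInstanceAs (Mono (kernel.ι c))
      epi_g := hc }
  have h1 := VarietyB.DegCartier.isCoh_quotMod E
  have h2 := VarietyB.DegCartier.isCoh_quotMod J
  have h3 : Coh.IsCoh (kernel c) := Sga67.CohBasic.isCoh_kernel _ h1 h2.1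
  have h4 : IL k X d l (1 * mc (ClSub.quotMod E)) =
      IL k X d l (1 * mc (kernel c)) + IL k X d l (1 * mc (ClSub.quotMod J)) :=
    IL_add k hd hI _ hS h3 h1 h2 (Inv.one (X := X))
  rw [one_mul, one_mul, one_mul] at h4
  have h5 : CohB1.support (kernel c) ⊆ CohB1.support (ClSub.quotMod E) := by
    have := CohqB.DevSupport.support_shortExact hS
    change CohB1.support (ClSub.quotMod E) = CohB1.support (kernel c) ∪ _ at this
    rw [this]
    exact Set.subset_union_left
  have h6 := IL_nonneg k hd ha hl h3 ((dim_mono h5).trans hE)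
  linarith

/-- Telescoping. -/
theorem core [IsIntegral X] {a : MC X} (ha : Inv a) {a' b' : MC X} (hna : NefA a a') (hnb : NefA a b')
    (E : X.IdealSheafData) (hE : PicF.IsInvertible (ClSub.idealMod E))
    (hab : b' = a' * mc (ClSub.idealMod E)) (m : ℕ) (hX : topologicalKrullDim X ≤ (m + 1 : ℕ))
    (hEd : topologicalKrullDim (CohB1.support (ClSub.quotMod E)) ≤ (m : ℕ)) :
    IL k X d (List.replicate m a') (mc (ClSub.quotMod E)) ≤ IL k X d (List.replicate (m + 1) b') 1 := by
  have hN := IntAdd.isNoetherian k X
  have hO : Coh.IsCoh (Coh.structureModule X) :=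
    HodgeSec.isCoh_of_isInvertible Fdesc.LocGen.isInvertible_structureModule
  have hOd : topologicalKrullDim (CohB1.support (Coh.structureModule X)) ≤ (m + 1 : ℕ) := by
    rw [Pic13.H956.Numbers.support_unit]
    exact (Topology.IsInducing.subtypeVal.topologicalKrullDim_le (Y := (Set.univ : Set X))).trans hX
  have hlnef : ∀ j i : ℕ, ∀ p ∈ List.replicate j b' ++ List.replicate i a', NefA a p := by
    intro j i p hp
    rcases List.mem_append.1 hp with hp | hp
    · rw [List.eq_of_mem_replicate hp]; exact hnb
    · rw [List.eq_of_mem_replicate hp]; exact hna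
  have hI : ∀ j i : ℕ, InvL (List.replicate j b' ++ List.replicate i a') := fun j i q hq => (hlnef j i q hq).1
  have hlen : ∀ j i : ℕ, (List.replicate j b' ++ List.replicate i a').length = j + i := by
    intro j i
    rw [List.length_append, List.length_replicate, List.length_replicate]
  have step : ∀ j i : ℕ, j + i = m → IL k X d (List.replicate (j + 1) b' ++ List.replicate i a') 1 =
      IL k X d (List.replicate j b' ++ List.replicate (i + 1) a') 1 +
        IL k X d (List.replicate j b' ++ List.replicate i a') (mc (ClSub.quotMod E)) := by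
    intro j i hji
    have hD : DLt ((List.replicate j b' ++ List.replicate i a').length + 2) (1 : MC X) := by
      rw [hlen, hji, ← mc_one]
      exact dLt_of_le hO hOd
    have h1 : IL k X d (b' :: (List.replicate j b' ++ List.replicate i a')) 1 =
        IL k X d ((a' * mc (ClSub.idealMod E)) :: (List.replicate j b' ++ List.replicate i a')) 1 := by
      rw [← hab]
    rw [List.replicate_succ, List.cons_append, h1, IL_mul k hd (hI j i) hna.1 (inv_mc hE) hD,
      IL_ideal k hd (hI j i), List.replicate_succ (n := i),
      IL_perm k d (List.perm_middle (a := a') (l₁ := List.replicate j b') (l₂ := List.replicate i a'))]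
  have hnn : ∀ j i : ℕ, j + i = m →
      0 ≤ IL k X d (List.replicate j b' ++ List.replicate i a') (mc (ClSub.quotMod E)) := by
    intro j i hji
    refine IL_nonneg k hd ha (hlnef j i) (VarietyB.DegCartier.isCoh_quotMod E) ?_
    rw [hlen, hji]
    exact hEd
  have mono : ∀ j i : ℕ, j + i = m → IL k X d (List.replicate 1 b' ++ List.replicate m a') 1 ≤
      IL k X d (List.replicate (j + 1) b' ++ List.replicate i a') 1 := by
    intro j
    induction j with
    | zero =>
      intro i hi
      rw [zero_add] at hi
      subst hi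
      exact le_rfl
    | succ j ih =>
      intro i hi
      have h1 := ih (i + 1) (by omega)
      have h2 := step (j + 1) i hi
      have h3 := hnn (j + 1) i hi
      rw [h2]
      linarith
  have h1 := mono m 0 (by omega)
  have h2 := step 0 m (by omega)
  rw [zero_add] at h2
  rw [h2] at h1
  have h3 : 0 ≤ IL k X d (List.replicate 0 b' ++ List.replicate (m + 1) a') (mc (Coh.structureModule X)) :=
    IL_nonneg k hd ha (hlnef 0 (m + 1)) hO (by
      rw [hlen, zero_add]
      exact hOd)
  rw [mc_one] at h3
  simp only [List.replicate_zero, List.nil_append, List.append_nil] at h1 h3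
  linarith

end K870.VertIL
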