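import Groth.Agent.Vanish.K910.Nef
import Groth.Agent.Vanish.K909.NefIff
import Groth.Agent.Variety.K427.KleimanNef
import Groth.Agent.Variety.K432.AmpCurve

/-!
# Nef modules and the classes `NefA`
-/

set_option autoImplicit false
universe u
open CategoryTheory CategoryTheory.Limits AlgebraicGeometry TopologicalSpace

namespace K870.VertNef

open Groth.Agent Groth.Agent.Fga Groth.Agent.Fga.PicMon K910.HZ K910.IL K910.Nef Groth.Agent.Grpsch.PicGrp

variable (k : Type u) [Field k]

/-- Nefness tested on closed immersions implies nefness tested on ideals. -/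
theorem nef_of_nef {X : Scheme.{u}} [X.Over (Spec (CommRingCat.of k))] [IsProper (X ↘ (Spec (CommRingCat.of k)))]
    {L : X.Modules} (h : K909.Kleiman.Nef k X L) : K432.NefBasic.Nef (X ↘ (Spec (CommRingCat.of k))) L := by
  intro C hC hdim
  have hdim' : topologicalKrullDim C.subscheme = 1 := by rw [K432.NefBasic.topologicalKrullDim_subscheme, hdim]
  have h1 := h C.subscheme C.subschemeι hC hdim'
  let _ : C.subscheme.Over (Spec (CommRingCat.of k)) := ⟨C.subschemeι ≫ (X ↘ (Spec (CommRingCat.of k)))⟩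
  have hp' : IsProper (C.subscheme ↘ (Spec (CommRingCat.of k))) :=
    (inferInstance : IsProper (C.subschemeι ≫ (X ↘ (Spec (CommRingCat.of k)))))
  have h2 : Pic13.curveDeg k (C.subschemeι ≫ (X ↘ (Spec (CommRingCat.of k))))
      ((Scheme.Modules.pullback C.subschemeι).obj L) =
      FGA.eulerCharLE k C.subscheme ((Scheme.Modules.pullback C.subschemeι).obj L) 1 -
        FGA.eulerCharLE k C.subscheme (Coh.structureModule C.subscheme) 1 := rfl
  rw [h2, Etcore.DegZero.eulerCharLE_eq k C.subscheme hdim', Etcore.DegZero.eulerCharLE_eq k C.subscheme hdim'] at h1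
  change 0 ≤ Curv2.deg k C.subscheme ((Scheme.Modules.pullback C.subschemeι).obj L) 1
  unfold Curv2.deg
  simpa using h1

/-- Ample modules are nef. -/
theorem nef_of_isAmple {X : Scheme.{u}} [X.Over (Spec (CommRingCat.of k))]
    [IsProper (X ↘ (Spec (CommRingCat.of k)))] {L : X.Modules} (h : CohB1.IsAmple L) :
    K432.NefBasic.Nef (X ↘ (Spec (CommRingCat.of k))) L := by
  intro C hC hdim
  have hdim' : topologicalKrullDim C.subscheme = 1 := by rw [K432.NefBasic.topologicalKrullDim_subscheme, hdim]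
  exact (K432.AmpCurve.dg_pos_of_isAmple (C.subschemeι ≫ (X ↘ (Spec (CommRingCat.of k)))) hdim' C.subschemeι h).le

/-- Nef modules satisfy `NefA`. -/
theorem nefA_of_nef (nak : K909.Kleiman.Nak.{u} k) {X : Scheme.{u}} [X.Over (Spec (CommRingCat.of k))]
    [IsProper (X ↘ (Spec (CommRingCat.of k)))] {d : ℕ} (hd : topologicalKrullDim X ≤ d)
    {H H' N N' : X.Modules} (hH : CohB1.IsAmple H) (hHH' : mc H' * mc H = 1) (hN : PicF.IsInvertible N)
    (hN' : PicF.IsInvertible N') (hNN' : mc N' * mc N = 1) (hnef : K909.Kleiman.Nef k X N) (e : ℕ) :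
    NefA (mc H') (mc N' ^ e) := by
  refine ⟨(inv_mc hN').pow e, fun ν hν => ?_⟩
  refine ⟨_, K909.Kleiman.isAmple_tensorPow_tensor k nak X d hd N H hnef hN hH (e * ν), ?_⟩
  rw [mc_tensor, mc_tensorPow, ← pow_mul]
  calc mc N ^ (e * ν) * mc H * (mc N' ^ (e * ν) * mc H') = (mc N' * mc N) ^ (e * ν) * (mc H' * mc H) := by
        rw [mul_pow]; simp only [mul_assoc, mul_comm, mul_left_comm]
    _ = 1 := by rw [hNN', hHH', one_pow, one_mul]

theorem mc_mul_eq_one {X : Scheme.{u}} {L M : X.Modules} (hL : PicF.IsInvertible L) (hM : PicF.IsInvertible M)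
    (h : mk L hL * mk M hM = 1) : mc L * mc M = 1 := by
  have h6 := congrArg (Pic13.H970.IntForm.toMC X) h
  rwa [map_mul, map_one] at h6

end K870.VertNef
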