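import Groth.Agent.Vanish.K910.NoGrowth
import Groth.Agent.Variety.K427.KleimanNef

/-!
# Self-intersection numbers and morphisms

* `icoef_eq_IL`: comparison of the two definitions of self-intersection numbers.
* `IL_map`: projection formula for a morphism from an integral scheme.
* `IL_map_eq_zero`: if `c_1(L)^r` vanishes on integral closed subschemes of dimension `r`, `(g^*L)^r = 0`.
* `IL_map_pos`: `(g^*O)^r > 0` for `g` surjective onto an irreducible scheme of dimension `r`, `O` ample.
-/

set_option autoImplicit false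
universe u
open CategoryTheory CategoryTheory.Limits AlgebraicGeometry TopologicalSpace

namespace K870.VertPush

open Groth.Agent Groth.Agent.Fga Groth.Agent.Fga.PicMon Groth.Agent.Fga.RegSec K910.HZ K910.IL K910.Nef K910.Dev

variable (k : Type u) [Field k]

theorem icoef_eq_IL {X : Scheme.{u}} [X.Over (Spec (CommRingCat.of k))]
    [IsProper (X ↘ Spec (CommRingCat.of k))] {d : ℕ} (hd : topologicalKrullDim X ≤ d) {F : X.Modules}
    (hF : Coh.IsCoh F) {r : ℕ} (hr : topologicalKrullDim (CohB1.support F) ≤ r) {L L' : X.Modules}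
    (hL : PicF.IsInvertible L) (hL' : PicF.IsInvertible L') (hLL' : mc L' * mc L = 1) :
    K424.IntCoef.icoef (Curv2.euler k X) (fun _ : Fin r => L) F =
      IL k X d (List.replicate r (mc L')) (mc F) := by
  have hN : IsNoetherian X := Fga.SnapperTwist.isNoetherian_of_proper k X
  have hχ := K424.PushCoef.isAdd_euler k X
  obtain ⟨P, -, hP⟩ := K424.IntCoef.exists_poly hχ (fun _ : Fin r => L) (fun _ => hL) F hF r hr
  have h1 := K424.IntCoef.coeff_eq_icoef hχ (fun _ : Fin r => L) (fun _ => hL) F hF hr P hP
  have h3 := K420.IntCoeff.coeff_eq_intNum' k d hd hF hr (L := fun _ => L) (M := fun _ => L') (fun _ => hL)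
    (fun _ => hL') (fun _ => by rw [mul_comm, hLL']) hP
  rw [IL_replicate]
  have h6 : ((K424.IntCoef.icoef (Curv2.euler k X) (fun _ : Fin r => L) F : ℤ) : ℚ) =
      ((FGA.intNum k X d (fun _ : Fin r => L') F : ℤ) : ℚ) := by
    rw [← h1]
    exact h3
  exact Int.cast_injective (α := ℚ) h6

section Map

variable {Z X : Scheme.{u}} [X.Over (Spec (CommRingCat.of k))] [Z.Over (Spec (CommRingCat.of k))]
  [IsProper (X ↘ Spec (CommRingCat.of k))] [IsProper (Z ↘ Spec (CommRingCat.of k))] (g : Z ⟶ X)
  (hg : g ≫ (X ↘ (Spec (CommRingCat.of k))) = Z ↘ (Spec (CommRingCat.of k))) [IsIntegral Z]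

include hg

/-- Projection formula. -/
theorem IL_map {dZ dX r : ℕ} (hdZ : topologicalKrullDim Z ≤ dZ) (hdX : topologicalKrullDim X ≤ dX)
    (hr : topologicalKrullDim Z = r) {L L' : X.Modules} (hL : PicF.IsInvertible L) (hL' : PicF.IsInvertible L')
    (hLL' : mc L' * mc L = 1) :
    IL k Z dZ (List.replicate r (mc ((Scheme.Modules.pullback g).obj L'))) 1 =
      (g.residueDegree (genericPoint Z) : ℤ) *
        IL k X dX (List.replicate r (mc L')) (mc (ClSub.quotMod g.ker)) := by
  have hN : IsNoetherian X := Fga.SnapperTwist.isNoetherian_of_proper k X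
  have hN' : IsNoetherian Z := Fga.SnapperTwist.isNoetherian_of_proper k Z
  have hO : Coh.IsCoh (Coh.structureModule Z) := Fdesc.StructMod.isCoh_structureModule _
  have hOr : topologicalKrullDim (CohB1.support (Coh.structureModule Z)) ≤ r := by
    rw [Pic13.H956.Numbers.support_unit, ← hr]
    exact Topology.IsInducing.subtypeVal.topologicalKrullDim_le
  obtain ⟨h1, h2⟩ := K424.PushFinal.icoef_push k g hg r hr (fun _ => L) (fun _ => hL)
  have hLg := Fdesc.LocGen.isInvertible_pullback g hL
  have hLg' := Fdesc.LocGen.isInvertible_pullback g hL'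
  have h3 : mc ((Scheme.Modules.pullback g).obj L') * mc ((Scheme.Modules.pullback g).obj L) = 1 := by
    have h4 : Grpsch.PicGrp.mk L' hL' * Grpsch.PicGrp.mk L hL = 1 := by
      rw [Grpsch.PicGrp.mk_mul_mk, Grpsch.PicGrp.mk_eq_one_iff]
      exact (mc_eq_iff _ _).1 (by rw [mc_tensor, hLL', mc_one])
    have h5 := congrArg (Grpsch.PicGrp.pull g) h4
    rw [map_mul, map_one, Grpsch.PicGrp.pull_mk g hL', Grpsch.PicGrp.pull_mk g hL] at h5
    have h6 := congrArg (Pic13.H970.IntForm.toMC Z) h5
    rwa [map_mul, map_one] at h6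
  rw [icoef_eq_IL k hdZ hO hOr hLg hLg' h3, icoef_eq_IL k hdX (K424.IntSum.isCoh_quotMod _) h2 hL hL' hLL',
    mc_one] at h1
  exact h1

theorem IL_map_eq_zero {dZ dX r : ℕ} (hdZ : topologicalKrullDim Z ≤ dZ) (hdX : topologicalKrullDim X ≤ dX)
    (hr : topologicalKrullDim Z = r) {L L' : X.Modules} (hL : PicF.IsInvertible L) (hL' : PicF.IsInvertible L')
    (hLL' : mc L' * mc L = 1)
    (h : ∀ (V : Scheme.{u}) (i : V ⟶ X) [IsClosedImmersion i], IsIntegral V → topologicalKrullDim V = (r : ℕ) →
      FGA.intNum k X dX (fun _ : Fin r => L') ((Scheme.Modules.pushforward i).obj (Coh.structureModule V)) = 0) :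
    IL k Z dZ (List.replicate r (mc ((Scheme.Modules.pullback g).obj L'))) 1 = 0 := by
  have hN : IsNoetherian X := Fga.SnapperTwist.isNoetherian_of_proper k X
  have hprop : IsProper (g ≫ (X ↘ (Spec (CommRingCat.of k)))) := by rw [hg]; infer_instance
  have hgp : IsProper g := IsProper.of_comp g (X ↘ (Spec (CommRingCat.of k)))
  rw [IL_map k g hg hdZ hdX hr hL hL' hLL']
  have h2 := (K424.PushFinal.icoef_push k g hg r hr (fun _ => L) (fun _ => hL)).2
  have hc : Coh.IsCoh (ClSub.quotMod g.ker) := K424.IntSum.isCoh_quotMod _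
  rcases lt_or_eq_of_le h2 with h3 | h3
  · rw [IL_vanish k hdX (l := List.replicate r (mc L')) (fun p hp => by
      rw [List.eq_of_mem_replicate hp]; exact inv_mc hL') ⟨_, hc, by rwa [List.length_replicate], rfl⟩, mul_zero]
  · have hint : IsIntegral g.ker.subscheme := Ega2.Normal.isIntegral_image g
    have h4 : CohB1.support (ClSub.quotMod g.ker) = Set.range g.ker.subschemeι := by
      have := CohqB.DevSimple.support_push g.ker.subschemeι (Coh.structureModule g.ker.subscheme)
      rw [Pic13.H956.Numbers.support_unit, Set.image_univ] at this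
      exact this
    rw [h4, dim_range] at h3
    have h5 := h g.ker.subscheme g.ker.subschemeι hint h3
    rw [← IL_replicate] at h5
    rw [h5, mul_zero]

theorem IL_map_pos {dZ dX r : ℕ} (hdZ : topologicalKrullDim Z ≤ dZ) (hdX : topologicalKrullDim X ≤ dX)
    (hr : topologicalKrullDim Z = r) (hrX : topologicalKrullDim X = r) [Surjective g]
    {L L' : X.Modules} (hL : CohB1.IsAmple L) (hL' : PicF.IsInvertible L')
    (hLL' : mc L' * mc L = 1) :
    0 < IL k Z dZ (List.replicate r (mc ((Scheme.Modules.pullback g).obj L'))) 1 := by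
  have hN : IsNoetherian X := Fga.SnapperTwist.isNoetherian_of_proper k X
  have hprop : IsProper (g ≫ (X ↘ (Spec (CommRingCat.of k)))) := by rw [hg]; infer_instance
  have hgp : IsProper g := IsProper.of_comp g (X ↘ (Spec (CommRingCat.of k)))
  rw [IL_map k g hg hdZ hdX hr hL.1 hL' hLL']
  have hrange : Set.range g = closure ({g (genericPoint Z)} : Set X) :=
    K424.PushFinal.range_eq_closure g g.isClosedMap
  have huniv : closure ({g (genericPoint Z)} : Set X) = Set.univ := by
    rw [← hrange]
    exact g.surjective.range_eq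
  have hcl : topologicalKrullDim (closure ({g (genericPoint Z)} : Set X)) = r := by
    rw [huniv, ← hrX]
    exact (Homeomorph.Set.univ X).isHomeomorph.topologicalKrullDim_eq
  have hdeg : 0 < g.residueDegree (genericPoint Z) := K427.KleimanNef.residueDegree_pos k g hg r hr hcl
  refine mul_pos (by exact_mod_cast hdeg) ?_
  refine IL_pos k hdX ?_ (K424.IntSum.isCoh_quotMod _) ?_
  · intro p hp
    rw [List.eq_of_mem_replicate hp]
    exact ⟨L, hL, by rw [mul_comm, hLL']⟩
  · rw [List.length_replicate]
    have h4 : CohB1.support (ClSub.quotMod g.ker) = Set.range g.ker.subschemeι := by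
      have := CohqB.DevSimple.support_push g.ker.subschemeι (Coh.structureModule g.ker.subscheme)
      rw [Pic13.H956.Numbers.support_unit, Set.image_univ] at this
      exact this
    rw [h4, Scheme.IdealSheafData.range_subschemeι, g.support_ker, hrange]
    change topologicalKrullDim (closure (closure ({g (genericPoint Z)} : Set X)) : Set X) = r
    rw [closure_closure, hcl]

end Map

end K870.VertPush
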