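import Groth.Agent.Vanish.K870.VertPt
import Groth.Agent.Vanish.K870.VertIL
import Groth.Agent.Vanish.K870.VertPush
import Groth.Agent.Vanish.K870.VertNef
import Groth.Agent.Vanish.K660.Kol
import Groth.Agent.Vanish.K660.KolUp
import Groth.Agent.VarietyA.AmpleField
import Groth.Agent.Dix.ProjProper
import Groth.Agent.S10829

/-!
# The fixed part of a nef class of numerical dimension `m` does not dominate `P^m`

`main`: `X` proper over a field, `L` nef with `(L^(m+1) · V) = 0` for integral closed `V` of dimension `m + 1`,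
`π : X' ⟶ X` a morphism from an integral projective scheme, `φ : X' ⟶ P^m` a morphism over `k`,
`E` effective Cartier on `X'` with `π^*L^e = φ^*O(1) + E`. Then `φ(E) ≠ P^m`.
-/

set_option autoImplicit false
universe u
open CategoryTheory CategoryTheory.Limits AlgebraicGeometry TopologicalSpace

namespace K870.VertMain

open Groth.Agent Groth.Agent.Fga Groth.Agent.Fga.PicMon Groth.Agent.Fga.RegSec K910.HZ K910.IL K910.Nef K910.Dev
  Groth.Agent.Grpsch.PicGrp Groth.Agent.Fga.JacFactor

/-- The generic point of an integral scheme is not on an effective Cartier divisor. -/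
theorem genericPoint_notMem {Y : Scheme.{u}} [IsIntegral Y] {E : Y.IdealSheafData}
    (hE : BlowUp.IsEffCartierIdeal E) : genericPoint Y ∉ E.support := by
  intro h
  obtain ⟨U, hxU, a, ha, hIa⟩ := hE (genericPoint Y)
  rw [Scheme.IdealSheafData.mem_support_iff_of_mem hxU, hIa] at h
  have hne : Nonempty U.1 := ⟨⟨_, hxU⟩⟩
  have ha0 : a ≠ 0 := nonZeroDivisors.ne_zero ha
  have h1 : genericPoint Y ∈ Y.basicOpen a := by
    by_contra h2
    apply ha0
    have h3 : Y.basicOpen a = ⊥ := by
      rw [← TopologicalSpace.Opens.not_nonempty_iff_eq_bot]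
      intro h4
      exact h2 (((genericPoint_spec Y).mem_open_set_iff (Y.basicOpen a).isOpen).2 (by simpa using h4))
    exact (basicOpen_eq_bot_iff a).1 h3
  rw [Scheme.mem_zeroLocus_iff] at h
  exact h a (Ideal.mem_span_singleton_self a) h1

/-- Closures of points and closed immersions. -/
theorem dim_closure_map {Z X : Scheme.{u}} (i : Z ⟶ X) [IsClosedImmersion i] (z : Z) :
    topologicalKrullDim (closure {i z} : Set X) = topologicalKrullDim (closure {z} : Set Z) := by
  have h1 : closure ({i z} : Set X) = i '' closure {z} := by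
    rw [← i.isClosedEmbedding.closure_image_eq, Set.image_singleton]
  rw [h1]
  exact (i.isClosedEmbedding.isEmbedding.homeomorphImage (closure {z})).isHomeomorph.topologicalKrullDim_eq.symm

variable (k : Type u) [Field k] (nak : K909.Kleiman.Nak.{u} k)

include nak

/-- The numerical part, on an integral scheme `T` of dimension `m + 1`. -/
theorem aux {T X P : Scheme.{u}} [X.Over (Spec (CommRingCat.of k))] [IsProper (X ↘ Spec (CommRingCat.of k))]
    [T.Over (Spec (CommRingCat.of k))] [IsProper (T ↘ Spec (CommRingCat.of k))] [IsIntegral T]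
    [P.Over (Spec (CommRingCat.of k))] [IsProper (P ↘ Spec (CommRingCat.of k))]
    (m n : ℕ) (hn : topologicalKrullDim X ≤ n) (hT : topologicalKrullDim T = ((m + 1 : ℕ) : WithBot ℕ∞))
    (hP : topologicalKrullDim P = (m : ℕ))
    (g : T ⟶ X) (hg : g ≫ (X ↘ Spec (CommRingCat.of k)) = T ↘ Spec (CommRingCat.of k))
    (ψ : T ⟶ P) (hψ : ψ ≫ (P ↘ Spec (CommRingCat.of k)) = T ↘ Spec (CommRingCat.of k))
    {L : X.Modules} (hL : PicF.IsInvertible L) {Linv : X.Modules} (hLi : PicF.IsInvertible Linv)
    (hLL : mk Linv hLi * mk L hL = 1) (hnef : K909.Kleiman.Nef k X L)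
    (hN1 : ∀ (V : Scheme.{u}) (i : V ⟶ X) [IsClosedImmersion i], IsIntegral V →
      topologicalKrullDim V = ((m + 1 : ℕ) : WithBot ℕ∞) →
        FGA.intNum k X n (fun _ : Fin (m + 1) => Linv)
          ((Scheme.Modules.pushforward i).obj (Coh.structureModule V)) = 0)
    {O : P.Modules} (hO : CohB1.IsAmple O) {H : T.Modules} (hH : CohB1.IsAmple H)
    {E : T.IdealSheafData} (hE : BlowUp.IsEffCartierIdeal E) (e : ℕ)
    (heq : pull g (mk L hL) ^ e * dcl E hE = pull ψ (mk O hO.1))
    (J : T.IdealSheafData) (hJ : IsIntegral J.subscheme) (hJd : topologicalKrullDim J.subscheme = (m : ℕ))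
    (hEJ : E ≤ J) (hsurj : Surjective (J.subschemeι ≫ ψ)) : False := by
  have hNT := IntAdd.isNoetherian k T
  -- inverse modules
  let Oi := dual O
  have hOi : PicF.IsInvertible Oi := isInvertible_dual hO.1
  have hOO : mk Oi hOi * mk O hO.1 = 1 := by rw [← inv_mk hO.1, inv_mul_cancel]
  let Hi := dual H
  have hHi : PicF.IsInvertible Hi := isInvertible_dual hH.1
  have hHH : mk Hi hHi * mk H hH.1 = 1 := by rw [← inv_mk hH.1, inv_mul_cancel]
  -- pull-backs
  have hLg := Fdesc.LocGen.isInvertible_pullback g hL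
  have hLig := Fdesc.LocGen.isInvertible_pullback g hLi
  have hOψ := Fdesc.LocGen.isInvertible_pullback ψ hO.1
  have hOiψ := Fdesc.LocGen.isInvertible_pullback ψ hOi
  have hLLg : mk _ hLig * mk _ hLg = 1 := by
    have := congrArg (pull g) hLL
    rwa [map_mul, map_one, pull_mk g hLi, pull_mk g hL] at this
  have hOOψ : mk _ hOiψ * mk _ hOψ = 1 := by
    have := congrArg (pull ψ) hOO
    rwa [map_mul, map_one, pull_mk ψ hOi, pull_mk ψ hO.1] at this
  rw [pull_mk g hL, pull_mk ψ hO.1] at heq
  have e1 : mk _ hLig = (mk _ hLg)⁻¹ := eq_inv_of_mul_eq_one_left hLLg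
  have e2 : mk _ hOiψ = (mk _ hOψ)⁻¹ := eq_inv_of_mul_eq_one_left hOOψ
  have e3 : mk _ hLig ^ e = mk _ hOiψ * dcl E hE := by
    rw [e1, e2, ← heq, inv_pow, mul_inv, mul_assoc, inv_mul_cancel, mul_one]
  -- nefness
  have hnefT : K909.Kleiman.Nef k T ((Scheme.Modules.pullback g).obj L) :=
    K427.KleimanNef.nef_pullback k g hg L hL (VertNef.nef_of_nef k hnef)
  have hnefO : K909.Kleiman.Nef k T ((Scheme.Modules.pullback ψ).obj O) :=
    K427.KleimanNef.nef_pullback k ψ hψ O hO.1 (VertNef.nef_of_isAmple k hO)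
  have hb : NefA (mc Hi) (mc ((Scheme.Modules.pullback g).obj Linv) ^ e) :=
    VertNef.nefA_of_nef k nak hT.le hH (VertNef.mc_mul_eq_one hHi hH.1 hHH) hLg hLig
      (VertNef.mc_mul_eq_one hLig hLg hLLg) hnefT e
  have ha : NefA (mc Hi) (mc ((Scheme.Modules.pullback ψ).obj Oi)) := by
    have := VertNef.nefA_of_nef k nak hT.le hH (VertNef.mc_mul_eq_one hHi hH.1 hHH) hOψ hOiψ
      (VertNef.mc_mul_eq_one hOiψ hOψ hOOψ) hnefO 1
    rwa [pow_one] at this
  -- the equation
  have hab : mc ((Scheme.Modules.pullback g).obj Linv) ^ e =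
      mc ((Scheme.Modules.pullback ψ).obj Oi) * mc (ClSub.idealMod E) := by
    have := congrArg (Pic13.H970.IntForm.toMC T) e3
    rwa [map_mul, map_pow] at this
  -- dimension of `E`
  have hdimE : topologicalKrullDim (CohB1.support (ClSub.quotMod E)) ≤ (m : ℕ) := by
    refine (dim_mono (K424.IntSum.support_quotMod_subset E)).trans ?_
    have hne : (E.support : Set T) ≠ Set.univ := by
      intro h
      exact genericPoint_notMem hE (by
        have : genericPoint T ∈ (E.support : Set T) := by rw [h]; trivial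
        exact this)
    refine IntNum0.withBot_le_of_lt_succ ?_
    refine DimLt.topologicalKrullDim_lt (A := Set.univ) (irreducibleSpace_def T |>.mp inferInstance)
      E.support.isClosed (Set.subset_univ _) hne ?_
    have h1 : topologicalKrullDim (Set.univ : Set T) ≤ topologicalKrullDim T :=
      Topology.IsInducing.subtypeVal.topologicalKrullDim_le
    exact lt_of_le_of_lt (h1.trans hT.le) (by exact_mod_cast Nat.lt_succ_self _)
  have h1 := VertIL.core k hT.le (inv_mc hHi) ha hb E (Dix.IdealModCartier.isInvertible_idealMod hE) hab m hT.le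
    hdimE
  -- the self-intersection of `L` vanishes
  have h2 := VertPush.IL_map_eq_zero k g hg hT.le hn hT hL hLi (VertNef.mc_mul_eq_one hLi hL hLL) hN1
  have h3 := K910.NoGrowth.IL_replicate_pow k hT.le (inv_mc hLig) e (m + 1) (l := [])
    (fun p hp => absurd hp List.not_mem_nil) (x := (1 : MC T)) (by
      rw [← mc_one]
      refine dLt_of_le (HodgeSec.isCoh_of_isInvertible Fdesc.LocGen.isInvertible_structureModule) ?_
      rw [Pic13.H956.Numbers.support_unit]
      exact (Topology.IsInducing.subtypeVal.topologicalKrullDim_le (Y := (Set.univ : Set T))).trans hT.le)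
  rw [List.append_nil, List.append_nil, h2, mul_zero] at h3
  rw [h3] at h1
  -- comparison with `J`
  have h4 := VertIL.IL_quot_le k hT.le (inv_mc hHi)
    (l := List.replicate m (mc ((Scheme.Modules.pullback ψ).obj Oi)))
    (fun p hp => by rw [List.eq_of_mem_replicate hp]; exact ha) hEJ (by
      rw [List.length_replicate]
      exact hdimE)
  -- restriction to `J`
  letI : J.subscheme.Over (Spec (CommRingCat.of k)) := ⟨J.subschemeι ≫ (T ↘ Spec (CommRingCat.of k))⟩
  have hi : J.subschemeι ≫ (T ↘ Spec (CommRingCat.of k)) = J.subscheme ↘ Spec (CommRingCat.of k) := rfl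
  have hJp : IsProper (J.subscheme ↘ Spec (CommRingCat.of k)) := by rw [← hi]; infer_instance
  have h5 := IL_push (k := k) J.subschemeι hi (m + 1)
    (l := List.replicate m ((Scheme.Modules.pullback ψ).obj Oi))
    (fun M hM => by rw [List.eq_of_mem_replicate hM]; exact hOiψ) (Coh.structureModule J.subscheme)
  rw [List.map_replicate, List.map_replicate, List.map_replicate] at h5
  have h6 : mc ((Scheme.Modules.pullback J.subschemeι).obj ((Scheme.Modules.pullback ψ).obj Oi)) =
      mc ((Scheme.Modules.pullback (J.subschemeι ≫ ψ)).obj Oi) :=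
    mc_eq ((Scheme.Modules.pullbackComp J.subschemeι ψ).app Oi)
  rw [h6, mc_one] at h5
  have h7 := VertPush.IL_map_pos k (J.subschemeι ≫ ψ) (by rw [Category.assoc, hψ]; rfl)
    (dZ := m + 1) (hJd.le.trans (by exact_mod_cast Nat.le_succ m)) hP.le hJd hP hO hOi
    (VertNef.mc_mul_eq_one hOi hO.1 hOO)
  have h8 : IL k T (m + 1) (List.replicate m (mc ((Scheme.Modules.pullback ψ).obj Oi))) (mc (ClSub.quotMod J)) =
      IL k J.subscheme (m + 1)
        (List.replicate m (mc ((Scheme.Modules.pullback (J.subschemeι ≫ ψ)).obj Oi))) 1 := h5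
  rw [← h8] at h7
  linarith

/-- **(VERT)**: the fixed part does not dominate. -/
theorem main {X : Scheme.{u}} [X.Over (Spec (CommRingCat.of k))] [IsProper (X ↘ Spec (CommRingCat.of k))]
    (n : ℕ) (hn : topologicalKrullDim X ≤ n) {L Linv : X.Modules} (hL : PicF.IsInvertible L)
    (hLinv : ClSub.IsInverseOf Linv L) (hnef : K909.Kleiman.Nef k X L) (m : ℕ)
    (hN1 : ∀ (V : Scheme.{u}) (i : V ⟶ X) [IsClosedImmersion i], IsIntegral V →
      topologicalKrullDim V = ((m + 1 : ℕ) : WithBot ℕ∞) →
        FGA.intNum k X n (fun _ : Fin (m + 1) => Linv)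
          ((Scheme.Modules.pushforward i).obj (Coh.structureModule V)) = 0)
    {X' : Scheme.{u}} [X'.Over (Spec (CommRingCat.of k))] [IsProper (X' ↘ Spec (CommRingCat.of k))] [IsIntegral X']
    (π : X' ⟶ X) (hπ : π ≫ (X ↘ Spec (CommRingCat.of k)) = X' ↘ Spec (CommRingCat.of k)) {H : X'.Modules}
    (hH : CohB1.IsAmple H) (φ : X' ⟶ CohB1.ProjSpace m k)
    (hφ : φ ≫ CohB1.ProjSpace.toSpec m k = X' ↘ Spec (CommRingCat.of k))
    {E : X'.IdealSheafData} (hE : BlowUp.IsEffCartierIdeal E) (e : ℕ)
    (hO1 : PicF.IsInvertible (Twist.twistProjSpace m k 1))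
    (heq : pull π (mk L hL) ^ e * dcl E hE = pull φ (mk (Twist.twistProjSpace m k 1) hO1)) :
    φ '' (E.support : Set X') ≠ Set.univ := by
  intro huniv
  let P : Scheme.{u} := CohB1.ProjSpace m k
  letI : P.Over (Spec (CommRingCat.of k)) := ⟨CohB1.ProjSpace.toSpec m k⟩
  have hPp : IsProper (P ↘ Spec (CommRingCat.of k)) := (inferInstance : IsProper (CohB1.ProjSpace.toSpec m k))
  have hφ' : φ ≫ (P ↘ Spec (CommRingCat.of k)) = X' ↘ Spec (CommRingCat.of k) := hφ
  have hPdim : topologicalKrullDim P = (m : ℕ) := S10829.result k m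
  have hPint : IsIntegral P := (inferInstance : IsIntegral (CohB1.ProjSpace m k))
  have hφp : IsProper φ := by
    have : IsProper (φ ≫ (P ↘ Spec (CommRingCat.of k))) := by rw [hφ']; infer_instance
    exact IsProper.of_comp φ (P ↘ Spec (CommRingCat.of k))
  -- a point of `E` over the generic point of `P`
  have hη : topologicalKrullDim (closure {genericPoint P} : Set P) = (m : ℕ) := by
    rw [genericPoint_closure, ← hPdim]
    exact (Homeomorph.Set.univ P).isHomeomorph.topologicalKrullDim_eq
  obtain ⟨y, hy, hyd⟩ := K432.CurveLift.exists_point_lift (P ↘ Spec (CommRingCat.of k)) (E.subschemeι ≫ φ)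
    (genericPoint P) (by
      obtain ⟨z, hz, hzη⟩ : genericPoint P ∈ φ '' (E.support : Set X') := by rw [huniv]; trivial
      rw [← Scheme.IdealSheafData.range_subschemeι] at hz
      obtain ⟨w, rfl⟩ := hz
      exact ⟨w, hzη⟩)
  obtain ⟨x, hx⟩ : ∃ x : X', x = E.subschemeι y := ⟨_, rfl⟩
  have hxE : x ∈ (E.support : Set X') := by
    rw [← Scheme.IdealSheafData.range_subschemeι, hx]
    exact ⟨y, rfl⟩
  have hxd : topologicalKrullDim (closure {x} : Set X') = (m : ℕ) := by rw [hx, dim_closure_map, hyd, hη]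
  have hxη : φ x = genericPoint P := by rw [hx]; exact hy
  -- the scheme `T`
  obtain ⟨t, htE, htx, htd⟩ := VertPt.exists_pt (X' ↘ Spec (CommRingCat.of k)) (E.support : Set X')
    E.support.isClosed hxE (genericPoint_specializes x) (genericPoint_notMem hE) m hxd
  let ι := (K432.CurveLift.ptIdeal t).subschemeι
  letI : (K432.CurveLift.ptIdeal t).subscheme.Over (Spec (CommRingCat.of k)) := ⟨ι ≫ (X' ↘ Spec (CommRingCat.of k))⟩
  have hι : ι ≫ (X' ↘ Spec (CommRingCat.of k)) =
    (K432.CurveLift.ptIdeal t).subscheme ↘ Spec (CommRingCat.of k) := rfl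
  have hTp : IsProper ((K432.CurveLift.ptIdeal t).subscheme ↘ Spec (CommRingCat.of k)) := by
    rw [← hι]; infer_instance
  have hTd : topologicalKrullDim (K432.CurveLift.ptIdeal t).subscheme = ((m + 1 : ℕ) : WithBot ℕ∞) := by
    rw [K432.NefBasic.topologicalKrullDim_subscheme, K432.CurveLift.support_ptIdeal, htd]
  have hgen : ι (genericPoint (K432.CurveLift.ptIdeal t).subscheme) = t := K424.IntSum.map_genericPoint_vI t
  obtain ⟨xT, hxT⟩ : x ∈ Set.range ι := by
    rw [K432.CurveLift.range_ptIdeal]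
    exact htx.mem_closure
  have hET : BlowUp.IsEffCartierIdeal (E.comap ι) :=
    K660.Kol.isEff_comap_of_generic ι hE (by rw [hgen]; exact htE)
  have hJd : topologicalKrullDim (K432.CurveLift.ptIdeal xT).subscheme = (m : ℕ) := by
    rw [K432.NefBasic.topologicalKrullDim_subscheme, K432.CurveLift.support_ptIdeal, ← dim_closure_map ι xT, hxT,
      hxd]
  have hEJ : E.comap ι ≤ K432.CurveLift.ptIdeal xT := by
    rw [← Scheme.IdealSheafData.le_support_iff_le_vanishingIdeal]
    intro z hz
    have h1 : xT ∈ (E.comap ι).support := by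
      rw [Scheme.IdealSheafData.support_comap]
      change ι xT ∈ E.support
      rw [hxT]
      exact hxE
    have h2 : z ∈ closure ({xT} : Set (K432.CurveLift.ptIdeal t).subscheme) := hz
    exact closure_minimal (Set.singleton_subset_iff.2 h1) (E.comap ι).support.isClosed h2
  have hιφ : (ι ≫ φ) ≫ (P ↘ Spec (CommRingCat.of k)) =
      (K432.CurveLift.ptIdeal t).subscheme ↘ Spec (CommRingCat.of k) := by
    rw [Category.assoc, hφ', hι]
  have hsurj : Surjective ((K432.CurveLift.ptIdeal xT).subschemeι ≫ (ι ≫ φ)) := by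
    refine ⟨?_⟩
    have h1 : IsClosedMap ((K432.CurveLift.ptIdeal xT).subschemeι ≫ (ι ≫ φ)) :=
      ((K432.CurveLift.ptIdeal xT).subschemeι ≫ (ι ≫ φ)).isClosedMap
    have h2 : genericPoint P ∈ Set.range ((K432.CurveLift.ptIdeal xT).subschemeι ≫ (ι ≫ φ)) := by
      obtain ⟨w, hw⟩ : xT ∈ Set.range (K432.CurveLift.ptIdeal xT).subschemeι := by
        rw [K432.CurveLift.range_ptIdeal]
        exact subset_closure rfl
      refine ⟨w, ?_⟩
      rw [Scheme.Hom.comp_apply, hw, Scheme.Hom.comp_apply, hxT, hxη]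
    rw [← Set.range_eq_univ, ← Set.univ_subset_iff, ← genericPoint_closure (α := P)]
    exact closure_minimal (Set.singleton_subset_iff.2 h2) h1.isClosed_range
  have hLi : PicF.IsInvertible Linv := by
    obtain ⟨f⟩ := hLinv
    exact IntAdd.isInvertible_of_tensor (Ega2.Tens.swap L Linv ≪≫ f)
  have hLL : mk Linv hLi * mk L hL = 1 := (K660.KolUp.isInverseOf_iff hLi hL).1 hLinv
  refine aux k nak m n hn hTd hPdim (ι ≫ π) (by rw [Category.assoc, hπ, hι]) (ι ≫ φ) hιφ hL hLi hLL hnef hN1
    (VarietyA.AmpleField.isAmple_twistProjSpace m k) (CohqB.AmpCocycle.isAmple_pullback ι hH) hET e ?_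
    (K432.CurveLift.ptIdeal xT) inferInstance hJd hEJ hsurj
  rw [pull_comp, pull_comp, ← K660.KolUp.pull_dcl ι hE hET, ← map_pow, ← map_mul, heq]

end K870.VertMain
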