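import Groth.Agent.CycA.SetupField
import Groth.Agent.S9684
import Groth.Agent.Sga1.TwoPoint
import Groth.Agent.Variety.K432.CurveLift

/-!
# Generizations of relative dimension one outside a closed subset

`exists_pt`: `X` locally of finite type over a field, `Z` closed, `x ∈ Z` a point with a generization outside `Z`.
There is a generization `t ∉ Z` of `x` with `dim closure {t} = dim closure {x} + 1`.
-/

set_option autoImplicit false
universe u
open CategoryTheory CategoryTheory.Limits AlgebraicGeometry TopologicalSpace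

namespace K870.VertPt

open Groth.Agent K432.CurveLift Groth.Agent.CycB.LocQuot

variable {k : Type u} [Field k] {X : Scheme.{u}} (p : X ⟶ Spec (CommRingCat.of k)) [LocallyOfFiniteType p]

/-- The dimension of the closure of a point, as an integer. -/
noncomputable def δ (x : X) : ℤ := ((exists_dim_closure p x).choose : ℤ)

theorem dim_closure (x : X) (n : ℕ) : topologicalKrullDim (closure {x} : Set X) = n ↔ δ p x = n := by
  have h := (exists_dim_closure p x).choose_spec.2
  rw [h]
  unfold δ
  constructor
  · intro h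
    exact_mod_cast h
  · intro h
    exact_mod_cast h

theorem deltaCompat : Cyc.DeltaCompat p (δ p) (fun _ => 0) := fun x =>
  ⟨(exists_dim_closure p x).choose, (exists_dim_closure p x).choose_spec.1, by simp [δ]⟩

theorem isDimFun : Cyc.IsDimFun X (δ p) :=
  S9684.result p _ (CycA.SetupField.isSetup_Spec_field k) (δ p) (deltaCompat p)

include p in
theorem exists_pt (Z : Set X) (hZ : IsClosed Z) {x ζ : X} (hx : x ∈ Z) (h : ζ ⤳ x) (hζ : ζ ∉ Z) (n : ℕ)
    (hn : topologicalKrullDim (closure {x} : Set X) = n) :
    ∃ t : X, t ∉ Z ∧ t ⤳ x ∧ topologicalKrullDim (closure {t} : Set X) = ((n + 1 : ℕ) : WithBot ℕ∞) := by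
  have hN : IsLocallyNoetherian X := LocallyOfFiniteType.isLocallyNoetherian p
  have hZ' : IsClosed ((X.fromSpecStalk x) ⁻¹' Z) := hZ.preimage (X.fromSpecStalk x).continuous
  obtain ⟨J, hJ⟩ := (PrimeSpectrum.isClosed_iff_zeroLocus_ideal _).1 hZ'
  have hmem : ∀ w : Spec (X.presheaf.stalk x), X.fromSpecStalk x w ∈ Z ↔ J ≤ w.asIdeal := by
    intro w
    have : w ∈ (X.fromSpecStalk x) ⁻¹' Z ↔ w ∈ PrimeSpectrum.zeroLocus (J : Set _) := by
      rw [hJ]
      exact Iff.rfl
    exact this
  obtain ⟨q, hq, hJq, hqm⟩ := Sga1.TwoPoint.exists_prime_two_points J ⟨(primeOf h).asIdeal, (primeOf h).isPrime, by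
    rw [← hmem]
    intro h1
    apply hζ
    rwa [fromSpecStalk_primeOf h] at h1⟩
  obtain ⟨t, ht, e⟩ := exists_eq_ker q
  rw [← primeOf_asIdeal] at e
  have htZ : t ∉ Z := by
    intro h1
    apply hJq
    rw [e, ← hmem, fromSpecStalk_primeOf ht]
    exact h1
  have hne : t ≠ x := fun h1 => htZ (h1 ▸ hx)
  refine ⟨t, htZ, ht, ?_⟩
  have h1 := ((isDimFun p) t x ht hne).2 (by
    intro z hz1 hz2
    have h2 : q ≤ (primeOf hz2).asIdeal := by
      rw [e]
      exact (primeOf_le_iff ht hz2).2 hz1
    rcases hqm _ (primeOf hz2).isPrime h2 with h3 | h3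
    · left
      have h4 : primeOf hz2 = primeOf ht := by
        apply PrimeSpectrum.ext
        rw [h3, e]
      exact (primeOf_inj hz2 ht).1 h4
    · right
      have h4 : primeOf hz2 = primeOf (specializes_refl x) := by
        apply PrimeSpectrum.ext
        rw [h3, primeOf_refl]
        rfl
      exact (primeOf_inj hz2 (specializes_refl x)).1 h4)
  rw [(dim_closure p x n).1 hn] at h1
  rw [dim_closure p t (n + 1), h1]
  push_cast
  rfl

end K870.VertPt
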